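/-
Permutations of at most 512 points packed in nine-bit fields.
-/
import Mathlib

set_option autoImplicit false

namespace CfsgPC

open Equiv

/-- The image of `i` under the code `c`. -/
def ap (c i : ℕ) : ℕ := (c >>> (9 * i)) % 512

def pk (f : ℕ → ℕ) : ℕ → ℕ
  | 0 => 0
  | k + 1 => pk f k + f k * 2 ^ (9 * k)

theorem pk_spec (f : ℕ → ℕ) (hf : ∀ i, f i < 512) :
    ∀ k, pk f k < 2 ^ (9 * k) ∧ ∀ i < k, ap (pk f k) i = f i := by
  intro k
  induction k with
  | zero => simp [pk]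
  | succ k ih =>
    obtain ⟨h1, h2⟩ := ih
    have hpow : 2 ^ (9 * (k + 1)) = 2 ^ (9 * k) * 512 := by rw [Nat.mul_succ, pow_add]; norm_num
    refine ⟨?_, fun i hi => ?_⟩
    · rw [hpow, pk]
      have := hf k
      calc pk f k + f k * 2 ^ (9 * k) < 2 ^ (9 * k) + f k * 2 ^ (9 * k) := by omega
        _ = (f k + 1) * 2 ^ (9 * k) := by ring
        _ ≤ 512 * 2 ^ (9 * k) := by gcongr; omega
        _ = _ := by ring
    · simp only [ap, pk, Nat.shiftRight_eq_div_pow] at h2 ⊢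
      rcases Nat.lt_succ_iff_lt_or_eq.mp hi with hik | rfl
      · rw [← h2 i hik]
        obtain ⟨d, hd⟩ : ∃ d, k = i + (d + 1) := ⟨k - i - 1, by omega⟩
        have : f k * 2 ^ (9 * k) = (f k * 2 ^ (9 * d) * 512) * 2 ^ (9 * i) := by
          rw [hd]; ring_nf
        rw [this, Nat.add_mul_div_right _ _ (Nat.two_pow_pos _), Nat.add_mul_mod_self_right]
      · rw [Nat.add_mul_div_right _ _ (Nat.two_pow_pos _), Nat.div_eq_of_lt h1, Nat.zero_add,
          Nat.mod_eq_of_lt (hf _)]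

/-- The code of the composite. -/
def cp (n c d : ℕ) : ℕ := pk (fun i => ap c (ap d i)) n

def idk (n : ℕ) : ℕ := pk (fun i => i % 512) n

/-- A code with the code of its inverse. -/
def isPerm (n c ci : ℕ) : Bool :=
  (List.range n).all fun i => Nat.blt (ap c i) n && Nat.blt (ap ci i) n && Nat.beq (ap c (ap ci i)) i &&
    Nat.beq (ap ci (ap c i)) i

/-- `g` is coded by `c`. -/
def Rep (n c : ℕ) (g : Perm (Fin n)) : Prop := ∀ i : Fin n, ap c i = (g i : ℕ)

/-- The code of a permutation. -/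
def code {n : ℕ} (g : Perm (Fin n)) : ℕ := pk (fun i => if h : i < n then (g ⟨i, h⟩ : ℕ) % 512 else 0) n

theorem rep_code {n : ℕ} (hn : n ≤ 512) (g : Perm (Fin n)) : Rep n (code g) g := fun i => by
  have hf : ∀ j : ℕ, (if h : j < n then (g ⟨j, h⟩ : ℕ) % 512 else 0) < 512 := fun j => by
    split
    · exact Nat.mod_lt _ (by norm_num)
    · norm_num
  rw [code, (pk_spec _ hf n).2 _ i.2, dif_pos i.2, Nat.mod_eq_of_lt (lt_of_lt_of_le (g _).2 hn)]

theorem Rep.comp {n c d : ℕ} {g h : Perm (Fin n)} (hc : Rep n c g) (hd : Rep n d h) :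
    Rep n (cp n c d) (g * h) := by
  intro i
  rw [cp, (pk_spec (fun i => ap c (ap d i)) (fun _ => Nat.mod_lt _ (by norm_num)) n).2 _ i.2, hd i, hc (h i)]
  rfl

theorem Rep.unique {n c : ℕ} {g h : Perm (Fin n)} (hg : Rep n c g) (hh : Rep n c h) : g = h :=
  Equiv.ext fun i => Fin.ext (by rw [← hg i, ← hh i])

theorem rep_id {n : ℕ} (hn : n ≤ 512) : Rep n (idk n) 1 := fun i => by
  rw [idk, (pk_spec (fun i => i % 512) (fun _ => Nat.mod_lt _ (by norm_num)) n).2 _ i.2,
    Nat.mod_eq_of_lt (lt_of_lt_of_le i.2 hn)]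
  rfl

/-- The permutation of a code, or one when the code is not a permutation. -/
noncomputable def decP (n c : ℕ) : Perm (Fin n) :=
  Classical.epsilon (fun g => Rep n c g)

theorem decP_rep {n c ci : ℕ} (h : isPerm n c ci = true) : Rep n c (decP n c) := by
  refine Classical.epsilon_spec (p := fun g => Rep n c g) ?_
  simp only [isPerm, List.all_eq_true, List.mem_range, Bool.and_eq_true, Nat.blt_eq] at h
  exact ⟨⟨fun i => ⟨ap c i, (h i i.2).1.1.1⟩, fun i => ⟨ap ci i, (h i i.2).1.1.2⟩,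
    fun i => Fin.ext (Nat.eq_of_beq_eq_true (h i i.2).2), fun i => Fin.ext (Nat.eq_of_beq_eq_true (h i i.2).1.2)⟩,
    fun i => rfl⟩

theorem decP_eq {n c : ℕ} {g : Perm (Fin n)} (h : Rep n c g) : decP n c = g :=
  (Classical.epsilon_spec (p := fun g => Rep n c g) ⟨g, h⟩).unique h

theorem rep_inv {n c ci : ℕ} (hn : n ≤ 512) {g : Perm (Fin n)} (hc : Rep n c g)
    (h : isPerm n c ci = true) : Rep n ci g⁻¹ := by
  simp only [isPerm, List.all_eq_true, List.mem_range, Bool.and_eq_true, Nat.blt_eq] at h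
  intro i
  have := Nat.eq_of_beq_eq_true (h i i.2).1.2
  have hb := (h i i.2).1.1.2
  rw [hc ⟨ap ci i, hb⟩] at this
  have e' : g⁻¹ i = ⟨ap ci i, hb⟩ := Perm.inv_eq_iff_eq.mpr (Fin.ext this).symm
  rw [e']

theorem Rep.eq_beq {n c d : ℕ} {g h : Perm (Fin n)} (hg : Rep n c g) (hh : Rep n d h)
    (e : Nat.beq c d = true) : g = h :=
  hg.unique ((Nat.eq_of_beq_eq_true e).symm ▸ hh)

end CfsgPC
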