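/-
Transversal tables along a base: each level's generators are named Schreier generators of the level above
and carry the base point to every entry of the level.
-/
import Cfsg.Agent.Lib.PermChain.Code

set_option autoImplicit false

namespace CfsgPC

open Equiv

/-- One level: the base point, the transversal (point, code, inverse code, parent, generator), the
position of each point in the transversal, and the chosen Schreier generators for the next level. -/
structure Level where
  base : ℕ
  tr : List (ℕ × ℕ × ℕ × ℕ × ℕ)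
  pos : List ℕ
  sel : List (ℕ × ℕ)

namespace Level

def pt (L : Level) (k : ℕ) : ℕ := (L.tr.getD k (0, 0, 0, 0, 0)).1

def tc (L : Level) (k : ℕ) : ℕ := (L.tr.getD k (0, 0, 0, 0, 0)).2.1

def ti (L : Level) (k : ℕ) : ℕ := (L.tr.getD k (0, 0, 0, 0, 0)).2.2.1

def par (L : Level) (k : ℕ) : ℕ := (L.tr.getD k (0, 0, 0, 0, 0)).2.2.2.1

def gno (L : Level) (k : ℕ) : ℕ := (L.tr.getD k (0, 0, 0, 0, 0)).2.2.2.2

/-- The Schreier generator of transversal entry `k` and generator `g`. -/
def schreier (L : Level) (n g k : ℕ) : ℕ :=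
  cp n (L.ti (L.pos.getD (ap g (L.pt k)) 0)) (cp n g (L.tc k))

def nextGens (L : Level) (n : ℕ) (gens : List ℕ) : List ℕ :=
  L.sel.map fun p => L.schreier n (gens.getD p.2 0) p.1

def findsOK (L : Level) (x : ℕ) : Bool :=
  Nat.blt (L.pos.getD x 0) L.tr.length && Nat.beq (L.pt (L.pos.getD x 0)) x

def treeOK (L : Level) (n : ℕ) (gens : List ℕ) (k : ℕ) : Bool :=
  isPerm n (L.tc k) (L.ti k) && Nat.beq (ap (L.tc k) L.base) (L.pt k) && Nat.beq (L.pos.getD (L.pt k) 0) k &&
    Nat.blt (L.pt k) n &&
    ((Nat.beq k 0 && Nat.beq (L.tc k) (idk n)) ||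
      (Nat.blt (L.par k) k && Nat.blt (L.gno k) gens.length &&
        Nat.beq (L.tc k) (cp n (gens.getD (L.gno k) 0) (L.tc (L.par k)))))

end Level

/-- Sift a code through the levels. -/
def sift (n : ℕ) : List Level → ℕ → Bool
  | [], h => (List.range n).all fun i => Nat.beq (ap h i) i
  | L :: ls, h =>
    L.findsOK (ap h L.base) && sift n ls (cp n (L.ti (L.pos.getD (ap h L.base) 0)) h)

/-- The subgroup generated by a list of codes. -/
noncomputable def genG (n : ℕ) (gens : List ℕ) : Subgroup (Perm (Fin n)) :=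
  Subgroup.closure {g | ∃ c ∈ gens, Rep n c g}

/-- The generators are codes of permutations. -/
def Valid (n : ℕ) (gens : List ℕ) : Prop := ∀ c ∈ gens, ∃ g, Rep n c g

def sizeOfChain : List Level → ℕ
  | [] => 1
  | L :: ls => L.tr.length * sizeOfChain ls

/-- One entry of a table: a product of a generator and an earlier entry, with a left inverse. -/
def entryOK (n : ℕ) (L : Level) (gens : List ℕ) (k : ℕ) : Bool :=
  Nat.beq (L.pos.getD (L.pt k) 0) k && Nat.blt (L.pt k) n && Nat.beq (ap (L.tc k) L.base) (L.pt k) &&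
    ((List.range n).all fun i => Nat.beq (ap (L.ti k) (ap (L.tc k) i)) i) &&
    if Nat.beq k 0 then (List.range n).all fun i => Nat.beq (ap (L.tc k) i) i
    else Nat.blt (L.par k) k && Nat.blt (L.gno k) gens.length &&
      (List.range n).all fun i => Nat.beq (ap (L.tc k) i) (ap (gens.getD (L.gno k) 0) (ap (L.tc (L.par k)) i))

/-- The selected Schreier generators are well placed and fix the base point. -/
def selOK (n : ℕ) (L : Level) (gens : List ℕ) : Bool :=
  L.sel.all fun p => Nat.blt p.1 L.tr.length && Nat.blt p.2 gens.length &&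
    L.findsOK (ap (gens.getD p.2 0) (L.pt p.1)) &&
    Nat.beq (ap (L.schreier n (gens.getD p.2 0) p.1) L.base) L.base

/-- The generators of each level. -/
def gensAt (n : ℕ) (ls : List Level) (gens : List ℕ) : ℕ → List ℕ
  | 0 => gens
  | j + 1 => match ls with
    | [] => []
    | L :: ls => gensAt n ls (L.nextGens n gens) j

/-- The entries `a ≤ k < b` of level `j` are right. -/
def entriesOK (n : ℕ) (ls : List Level) (gens : List ℕ) (j a b : ℕ) : Bool :=
  (List.range (b - a)).all fun d => entryOK n (ls.getD j ⟨0, [], [], []⟩) (gensAt n ls gens j) (a + d)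

/-- A checked table. -/
inductive TableOK (n : ℕ) : List Level → List ℕ → Prop
  | nil (gens : List ℕ) : TableOK n [] gens
  | cons {L : Level} {ls : List Level} {gens : List ℕ} (hb : L.base < n) (hlen : 0 < L.tr.length)
      (hent : ∀ k < L.tr.length, entryOK n L gens k = true) (hsel : selOK n L gens = true)
      (hrest : TableOK n ls (L.nextGens n gens)) : TableOK n (L :: ls) gens

/-- The shape part of the check. -/
def shapeOK (n : ℕ) : List Level → List ℕ → Bool
  | [], _ => true
  | L :: ls, gens => Nat.blt L.base n && Nat.blt 0 L.tr.length && selOK n L gens && shapeOK n ls (L.nextGens n gens)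

theorem tableOK_of_checks {n : ℕ} : ∀ {ls : List Level} {gens : List ℕ}, shapeOK n ls gens = true →
    (∀ j < ls.length, ∀ k < (ls.getD j ⟨0, [], [], []⟩).tr.length,
      entryOK n (ls.getD j ⟨0, [], [], []⟩) (gensAt n ls gens j) k = true) → TableOK n ls gens := by
  intro ls
  induction ls with
  | nil => exact fun _ _ => .nil _
  | cons L ls ih =>
    intro gens h he
    simp only [shapeOK, Bool.and_eq_true, Nat.blt_eq] at h
    exact .cons h.1.1.1 h.1.1.2 (fun k hk => he 0 (by simp) k hk) h.1.2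
      (ih h.2 fun j hj k hk => he (j + 1) (by simpa using hj) k hk)

theorem of_entriesOK {n : ℕ} {ls : List Level} {gens : List ℕ} {j a b : ℕ} (h : entriesOK n ls gens j a b = true)
    {k : ℕ} (ha : a ≤ k) (hb : k < b) : entryOK n (ls.getD j ⟨0, [], [], []⟩) (gensAt n ls gens j) k = true := by
  have := List.all_eq_true.mp h (k - a) (List.mem_range.mpr (by omega))
  rwa [Nat.add_sub_cancel' ha] at this

theorem Valid.mem {n : ℕ} {gens : List ℕ} {c : ℕ} (hc : c ∈ gens) {g : Perm (Fin n)} (hg : Rep n c g) :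
    g ∈ genG n gens := Subgroup.subset_closure ⟨c, hc, hg⟩

/-- What an entry of a level gives. -/
theorem level_entry {n : ℕ} {L : Level} {gens : List ℕ} (hv : Valid n gens) (hb : L.base < n)
    (hent : ∀ k < L.tr.length, entryOK n L gens k = true) : ∀ k < L.tr.length, ∃ T ∈ genG n gens,
      Rep n (L.tc k) T ∧ Rep n (L.ti k) T⁻¹ ∧ (T ⟨L.base, hb⟩ : ℕ) = L.pt k ∧ L.pos.getD (L.pt k) 0 = k := by
  intro k
  induction k using Nat.strong_induction_on with
  | _ k ih =>
    intro hk
    have h := hent k hk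
    simp only [entryOK, Bool.and_eq_true, Nat.blt_eq, List.all_eq_true, List.mem_range] at h
    obtain ⟨⟨⟨⟨hpos, -⟩, hap⟩, hinv⟩, hor⟩ := h
    suffices hT : ∃ T ∈ genG n gens, Rep n (L.tc k) T by
      obtain ⟨T, hT, hr⟩ := hT
      refine ⟨T, hT, hr, fun i => ?_, ?_, Nat.eq_of_beq_eq_true hpos⟩
      · have e := Nat.eq_of_beq_eq_true (hinv (T⁻¹ i : Fin n) (T⁻¹ i).2)
        rw [hr (T⁻¹ i), show T (T⁻¹ i) = i from T.apply_symm_apply i] at e
        exact e
      · rw [← hr ⟨L.base, hb⟩]; exact Nat.eq_of_beq_eq_true hap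
    by_cases h0 : k = 0
    · subst h0
      simp only [Nat.beq_refl, if_true, List.all_eq_true, List.mem_range] at hor
      exact ⟨1, one_mem _, fun i => by rw [Nat.eq_of_beq_eq_true (hor i i.2)]; rfl⟩
    · rw [if_neg (fun e => h0 (Nat.eq_of_beq_eq_true e))] at hor
      simp only [Bool.and_eq_true, Nat.blt_eq, List.all_eq_true, List.mem_range] at hor
      obtain ⟨⟨hpar, hg⟩, he⟩ := hor
      obtain ⟨T, hT, hr, -⟩ := ih _ hpar (hpar.trans hk)
      obtain ⟨g, hgr⟩ := hv _ (List.getElem_mem hg)
      refine ⟨g * T, mul_mem (Valid.mem (List.getElem_mem hg) hgr) hT, fun i => ?_⟩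
      rw [Nat.eq_of_beq_eq_true (he i i.2), List.getD_eq_getElem _ _ hg, hr i, hgr (T i)]
      rfl

/-- The next generators are permutations of the group fixing the base point. -/
theorem level_next {n : ℕ} (hn : n ≤ 512) {L : Level} {gens : List ℕ} (hv : Valid n gens) (hb : L.base < n)
    (hent : ∀ k < L.tr.length, entryOK n L gens k = true) (hsel : selOK n L gens = true) :
    Valid n (L.nextGens n gens) ∧
      genG n (L.nextGens n gens) ≤ genG n gens ⊓ MulAction.stabilizer (Perm (Fin n)) (⟨L.base, hb⟩ : Fin n) := by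
  have key : ∀ c ∈ L.nextGens n gens, ∃ g, Rep n c g ∧ g ∈ genG n gens ∧
      g (⟨L.base, hb⟩ : Fin n) = ⟨L.base, hb⟩ := by
    intro c hc
    simp only [Level.nextGens, List.mem_map] at hc
    obtain ⟨p, hp, rfl⟩ := hc
    have h := List.all_eq_true.mp hsel p hp
    simp only [Bool.and_eq_true, Nat.blt_eq, Level.findsOK] at h
    obtain ⟨⟨⟨hk, hg⟩, hj, -⟩, hfix⟩ := h
    obtain ⟨g, hgr⟩ := hv _ (List.getElem_mem hg)
    obtain ⟨T, hT, hr, -⟩ := level_entry hv hb hent _ hk
    obtain ⟨U, hU, -, hri, -⟩ := level_entry hv hb hent _ hj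
    have hrep : Rep n (L.schreier n (gens.getD p.2 0) p.1) (U⁻¹ * (g * T)) := by
      rw [Level.schreier]
      refine hri.comp (Rep.comp ?_ hr)
      rw [List.getD_eq_getElem _ _ hg]
      exact hgr
    refine ⟨_, hrep, mul_mem (inv_mem hU) (mul_mem (Valid.mem (List.getElem_mem hg) hgr) hT), Fin.ext ?_⟩
    rw [← hrep ⟨L.base, hb⟩]
    exact Nat.eq_of_beq_eq_true hfix
  refine ⟨fun c hc => ⟨_, (key c hc).choose_spec.1⟩, ?_⟩
  rw [genG, Subgroup.closure_le]
  rintro g ⟨c, hc, hg⟩
  obtain ⟨g', hg', hm, hfix⟩ := key c hc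
  obtain rfl := hg.unique hg'
  exact ⟨hm, hfix⟩

/-- The products of transversal entries. -/
def prodSet (n : ℕ) : List Level → Set (Perm (Fin n))
  | [] => {1}
  | L :: ls => {g | ∃ k < L.tr.length, ∃ T : Perm (Fin n), Rep n (L.tc k) T ∧ ∃ y ∈ prodSet n ls, g = T * y}

/-- The products lie in the group and are as many as the table says. -/
theorem table_products {n : ℕ} (hn : n ≤ 512) : ∀ {ls : List Level} {gens : List ℕ}, TableOK n ls gens →
    Valid n gens → prodSet n ls ⊆ genG n gens ∧ (prodSet n ls).ncard = sizeOfChain ls := by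
  intro ls gens h
  induction h with
  | nil gens => exact fun _ => ⟨fun g hg => by rw [show g = 1 from hg]; exact one_mem _, Set.ncard_singleton _⟩
  | @cons L ls gens hb hlen hent hsel _ ih =>
    intro hv
    obtain ⟨hnv, hnle⟩ := level_next hn hv hb hent hsel
    obtain ⟨hsub, hcard⟩ := ih hnv
    refine ⟨?_, ?_⟩
    · rintro g ⟨k, hk, T, hT, y, hy, rfl⟩
      obtain ⟨T', hT', hr, -⟩ := level_entry hv hb hent k hk
      rw [hT.unique hr]
      exact mul_mem hT' (hnle (hsub hy)).1
    · choose! T hTm hTr _ hTb hTp using level_entry hv hb hent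
      have himg : prodSet n (L :: ls) =
          (fun p : ℕ × Perm (Fin n) => T p.1 * p.2) '' (Set.Iio L.tr.length ×ˢ prodSet n ls) := by
        ext g
        constructor
        · rintro ⟨k, hk, U, hU, y, hy, rfl⟩
          exact ⟨(k, y), ⟨hk, hy⟩, by rw [hU.unique (hTr k hk)]⟩
        · rintro ⟨⟨k, y⟩, ⟨hk, hy⟩, rfl⟩
          exact ⟨k, hk, T k, hTr k hk, y, hy, rfl⟩
      have hinj : Set.InjOn (fun p : ℕ × Perm (Fin n) => T p.1 * p.2) (Set.Iio L.tr.length ×ˢ prodSet n ls) := by
        rintro ⟨k, y⟩ ⟨hk, hy⟩ ⟨l, z⟩ ⟨hl, hz⟩ e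
        have fy : y ⟨L.base, hb⟩ = ⟨L.base, hb⟩ := (hnle (hsub hy)).2
        have fz : z ⟨L.base, hb⟩ = ⟨L.base, hb⟩ := (hnle (hsub hz)).2
        have h1 := congrArg (fun q : Perm (Fin n) => L.pos.getD (q ⟨L.base, hb⟩ : ℕ) 0) e
        simp only [Perm.mul_apply, fy, fz] at h1
        rw [hTb k hk, hTb l hl, hTp k hk, hTp l hl] at h1
        subst h1
        simp only [mul_right_inj] at e
        rw [e]
      rw [himg, hinj.ncard_image, Set.ncard_prod, hcard, sizeOfChain]
      simp [Set.ncard_eq_toFinset_card']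

/-- A table as large as the group gives all its elements. -/
theorem table_eq {n : ℕ} (hn : n ≤ 512) {ls : List Level} {gens : List ℕ} (h : TableOK n ls gens) (hv : Valid n gens)
    (hcard : Nat.card (genG n gens) ≤ sizeOfChain ls) :
    prodSet n ls = genG n gens ∧ Nat.card (genG n gens) = sizeOfChain ls := by
  obtain ⟨hsub, hc⟩ := table_products hn h hv
  have he : prodSet n ls = genG n gens :=
    Set.eq_of_subset_of_ncard_le hsub (by rw [hc, ← Nat.card_coe_set_eq]; exact hcard) (Set.toFinite _)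
  refine ⟨he, ?_⟩
  rw [← hc, he, ← Nat.card_coe_set_eq]
  rfl

/-- A code that sifts is an element of the group. -/
theorem mem_of_sift {n : ℕ} (hn : n ≤ 512) : ∀ {ls : List Level} {gens : List ℕ}, TableOK n ls gens → Valid n gens →
    ∀ c g, Rep n c g → sift n ls c = true → g ∈ genG n gens := by
  intro ls gens h
  induction h with
  | nil gens =>
    intro _ c g hg hs
    simp only [sift, List.all_eq_true, List.mem_range] at hs
    rw [show g = 1 from Equiv.ext fun i => Fin.ext (by rw [← hg i, Nat.eq_of_beq_eq_true (hs i i.2)]; rfl)]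
    exact one_mem _
  | @cons L ls gens hb hlen hent hsel _ ih =>
    intro hv c g hg hs
    obtain ⟨hnv, hnle⟩ := level_next hn hv hb hent hsel
    simp only [sift, Level.findsOK, Bool.and_eq_true, Nat.blt_eq] at hs
    obtain ⟨⟨hk, -⟩, hs⟩ := hs
    obtain ⟨T, hT, -, hri, -⟩ := level_entry hv hb hent _ hk
    have h2 := (hnle (ih hnv _ _ (hri.comp hg) hs)).1
    have := mul_mem hT h2
    rwa [mul_inv_cancel_left] at this

end CfsgPC
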