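/-
Lazy evaluation of words, products of transversal elements with prescribed images, straight-line programs.
-/
import Cfsg.Agent.Lib.PermChain.Chain

set_option autoImplicit false

namespace CfsgPC

open Equiv

variable {n : ℕ}

/-- The iterate of a code at a point. -/
def apN (c : ℕ) : ℕ → ℕ → ℕ
  | 0, i => i
  | k + 1, i => ap c (apN c k i)

theorem rep_apN {c : ℕ} {g : Perm (Fin n)} (h : Rep n c g) : ∀ k (i : Fin n), apN c k i = ((g ^ k) i : ℕ)
  | 0, i => rfl
  | k + 1, i => by rw [apN, rep_apN h k, h, pow_succ', Perm.mul_apply]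

/-- The image of a point under a word of codes. -/
def apW (cs : List ℕ) : List ℕ → ℕ → ℕ
  | [], i => i
  | a :: w, i => ap (cs.getD a 0) (apW cs w i)

theorem rep_apW {cs : List ℕ} {g : ℕ → Perm (Fin n)} : ∀ (w : List ℕ), (∀ a ∈ w, Rep n (cs.getD a 0) (g a)) →
    ∀ i : Fin n, apW cs w i = ((w.map g).prod i : ℕ)
  | [], _, i => rfl
  | a :: w, h, i => by
    rw [apW, rep_apW w (fun b hb => h b (List.mem_cons_of_mem a hb)), h a (List.mem_cons_self ..), List.map_cons,
      List.prod_cons, Perm.mul_apply]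

/-- A power of a word fixes every point. -/
def relHolds (n : ℕ) (cs : List ℕ) (r : List ℕ × ℕ) : Bool :=
  (List.range n).all fun i => Nat.beq (apW cs (List.replicate r.2 r.1).flatten i) i

theorem relHolds_iff {cs : List ℕ} {g : ℕ → Perm (Fin n)} {r : List ℕ × ℕ}
    (h : ∀ a ∈ r.1, Rep n (cs.getD a 0) (g a)) : relHolds n cs r = true ↔ (r.1.map g).prod ^ r.2 = 1 := by
  have hmem : ∀ a ∈ (List.replicate r.2 r.1).flatten, Rep n (cs.getD a 0) (g a) := fun a ha => by
    obtain ⟨l, hl, hal⟩ := List.mem_flatten.mp ha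
    exact h a (List.eq_of_mem_replicate hl ▸ hal)
  have hprod : ((List.replicate r.2 r.1).flatten.map g).prod = (r.1.map g).prod ^ r.2 := by
    rw [List.map_flatten, List.prod_flatten, List.map_map, List.map_replicate, List.prod_replicate]
    rfl
  simp only [relHolds, List.all_eq_true, List.mem_range]
  constructor
  · intro hh
    refine Equiv.ext fun i => Fin.ext ?_
    rw [← hprod, ← rep_apW _ hmem i, Nat.eq_of_beq_eq_true (hh i i.2)]
    rfl
  · intro hh i hi
    rw [rep_apW _ hmem ⟨i, hi⟩, hprod, hh]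
    exact Nat.beq_refl i

/-- The code of the product of transversal elements carrying the bases to the given points. -/
def liftC (n : ℕ) : List Level → List ℕ → Option ℕ
  | [], _ => some (idk n)
  | _ :: _, [] => none
  | L :: ls, v :: vs =>
    if L.findsOK v then
      (liftC n ls (vs.map fun w => ap (L.ti (L.pos.getD v 0)) w)).map fun h => cp n (L.tc (L.pos.getD v 0)) h
    else none

theorem lift_sound (hn : n ≤ 512) : ∀ {ls : List Level} {gens : List ℕ}, TableOK n ls gens → Valid n gens →
    ∀ g ∈ prodSet n ls, ∀ vs : List ℕ, vs.length = ls.length →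
      (∀ j < ls.length, ∀ b : Fin n, (b : ℕ) = (ls.map Level.base).getD j 0 → vs.getD j 0 = (g b : ℕ)) →
      ∃ c, liftC n ls vs = some c ∧ Rep n c g := by
  intro ls gens h
  induction h with
  | nil gens =>
    intro _ g hg vs _ _
    rw [show g = 1 from hg]
    exact ⟨idk n, rfl, rep_id hn⟩
  | @cons L ls gens hb hlen hent hsel hrest ih =>
    intro hv g hg vs hlen' himg
    obtain ⟨hnv, hnle⟩ := level_next hn hv hb hent hsel
    obtain ⟨k, hk, T, hT, y, hy, rfl⟩ := hg
    obtain ⟨T', -, hr, hri, hTb, hpos⟩ := level_entry hv hb hent k hk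
    obtain rfl := hT.unique hr
    have hyfix : y ⟨L.base, hb⟩ = ⟨L.base, hb⟩ := (hnle ((table_products hn hrest hnv).1 hy)).2
    cases vs with
    | nil => simp at hlen'
    | cons v vs =>
      have hv0 : v = L.pt k := by
        have := himg 0 (by simp) ⟨L.base, hb⟩ (by simp)
        rw [Perm.mul_apply, hyfix, hTb] at this
        simpa using this
      obtain ⟨c, hc, hcr⟩ := ih hnv y hy (vs.map fun w => ap (L.ti k) w)
        (by simpa using hlen') (fun j hj b hbj => by
          have hlj : j < vs.length := by simp at hlen'; omega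
          rw [List.getD_eq_getElem _ _ (by simpa using hlj), List.getElem_map]
          have := himg (j + 1) (by simpa using hj) b (by simpa using hbj)
          rw [List.getD_cons_succ, List.getD_eq_getElem _ _ hlj] at this
          rw [this, hri, Perm.mul_apply]
          exact congrArg Fin.val (T.symm_apply_apply _))
      refine ⟨cp n (L.tc k) c, ?_, hT.comp hcr⟩
      rw [liftC, hv0, hpos, if_pos (by simp only [Level.findsOK, hpos, Nat.beq_refl, Bool.and_true, Nat.blt_eq]; exact hk), hc]
      rfl

/-- One step of a straight-line program: a product or an inverse of earlier entries. -/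
def slpStepOK (n : ℕ) (l : List ℕ) (s : ℕ × Bool × ℕ × ℕ) : Bool :=
  Nat.blt s.2.2.1 l.length && Nat.blt s.2.2.2 l.length &&
    if s.2.1 then isPerm n (l.getD s.2.2.1 0) s.1 else Nat.beq s.1 (cp n (l.getD s.2.2.1 0) (l.getD s.2.2.2 0))

/-- The straight-line program is valid and its result contains the targets. -/
def slpOK (n : ℕ) : List ℕ → List (ℕ × Bool × ℕ × ℕ) → List ℕ → Bool
  | l, [], ts => ts.all fun t => l.any fun a => Nat.beq a t
  | l, s :: ss, ts => slpStepOK n l s && slpOK n (l ++ [s.1]) ss ts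

theorem slp_sound (hn : n ≤ 512) (H : Subgroup (Perm (Fin n))) : ∀ (ss : List (ℕ × Bool × ℕ × ℕ)) (l ts : List ℕ),
    slpOK n l ss ts = true → (∀ c ∈ l, ∃ g ∈ H, Rep n c g) → ∀ t ∈ ts, ∃ g ∈ H, Rep n t g := by
  intro ss
  induction ss with
  | nil =>
    intro l ts h hl t ht
    simp only [slpOK, List.all_eq_true, List.any_eq_true] at h
    obtain ⟨a, ha, he⟩ := h t ht
    exact Nat.eq_of_beq_eq_true he ▸ hl a ha
  | cons s ss ih =>
    intro l ts h hl
    simp only [slpOK, Bool.and_eq_true] at h
    obtain ⟨hs, h⟩ := h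
    refine ih _ ts h fun c hc => ?_
    rcases List.mem_append.mp hc with hc | hc
    · exact hl c hc
    rw [List.mem_singleton] at hc
    subst hc
    simp only [slpStepOK, Bool.and_eq_true, Nat.blt_eq] at hs
    obtain ⟨⟨hi, hj⟩, hs⟩ := hs
    rw [List.getD_eq_getElem _ _ hi, List.getD_eq_getElem _ _ hj] at hs
    obtain ⟨g, hg, hgr⟩ := hl _ (List.getElem_mem hi)
    obtain ⟨g', hg', hgr'⟩ := hl _ (List.getElem_mem hj)
    by_cases hb : s.2.1 = true
    · rw [if_pos hb] at hs
      exact ⟨g⁻¹, inv_mem hg, rep_inv hn hgr hs⟩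
    · rw [if_neg hb] at hs
      exact ⟨g * g', mul_mem hg hg', (Nat.eq_of_beq_eq_true hs).symm ▸ hgr.comp hgr'⟩

end CfsgPC
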