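/-
Collector certificates for the torsion of a multiplier, checked on the base points of a transversal table.
-/
import Cfsg.Agent.Lib.PermChain.Eval
import Cfsg.Agent.Lib.StemSylow.CollectP
import Cfsg.Agent.Lib.StSL.Small

set_option autoImplicit false
set_option linter.unusedSectionVars false

namespace CfsgPC

open Equiv Subgroup
open CfsgLib.StemSylow

universe u

variable {n : ℕ} {ls : List Level} {gens : List ℕ}

/-- Members agreeing on the base points are equal. -/
theorem eq_of_bases (hn : n ≤ 512) (hT : TableOK n ls gens) (hv : Valid n gens)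
    (hp : prodSet n ls = genG n gens) {g h : Perm (Fin n)} (hg : g ∈ genG n gens) (hh : h ∈ genG n gens)
    (he : ∀ j < ls.length, ∀ b : Fin n, (b : ℕ) = (ls.map Level.base).getD j 0 → g b = h b) : g = h := by
  let vs : List ℕ := (ls.map Level.base).map fun b => if hb : b < n then (g ⟨b, hb⟩ : ℕ) else 0
  have hval : ∀ j < ls.length, ∀ b : Fin n, (b : ℕ) = (ls.map Level.base).getD j 0 → vs.getD j 0 = (g b : ℕ) := by
    intro j hj b hb
    rw [List.getD_eq_getElem _ _ (by simpa using hj)] at hb
    rw [List.getD_eq_getElem _ _ (by simpa [vs] using hj)]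
    simp only [vs, List.getElem_map] at hb ⊢
    simp only [← hb, dif_pos b.2]
  obtain ⟨c, hc, hcg⟩ := lift_sound hn hT hv g (hp.symm ▸ hg) vs (by simp [vs]) hval
  obtain ⟨d, hd, hdh⟩ := lift_sound hn hT hv h (hp.symm ▸ hh) vs (by simp [vs])
    (fun j hj b hb => by rw [hval j hj b hb, he j hj b hb])
  rw [hc] at hd
  obtain rfl := Option.some.inj hd
  exact hcg.unique hdh

/-- Codes with inverse codes which sift through the table. -/
def memOK (n : ℕ) (ls : List Level) (cs : List (ℕ × ℕ)) : Bool :=
  cs.all fun c => isPerm n c.1 c.2 && sift n ls c.1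

/-- The facts, at the base points. -/
def factsB (ls : List Level) (facts : List (ℕ × List ℕ × List ℕ)) (gc tc : List ℕ) : Bool :=
  facts.all fun f => Nat.blt f.1 tc.length && f.2.1.all (fun a => Nat.blt a gc.length) &&
    f.2.2.all (fun a => Nat.blt a gc.length) && (ls.map Level.base).all fun b =>
      Nat.beq (ap (tc.getD f.1 0) (apW gc f.2.1 b)) (apW gc f.2.2 (ap (tc.getD f.1 0) b))

/-- The part of a certificate that lies in the group: elements, facts and the order of the `p`-group. -/
structure SylowData (n : ℕ) (ls : List Level) (gens : List ℕ) where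
  gc : List (ℕ × ℕ)
  tc : List (ℕ × ℕ)
  sub : List Level

namespace SylowData

variable (D : SylowData n ls gens)

/-- What is to be checked of the data. -/
structure OK (facts : List (ℕ × List ℕ × List ℕ)) (N : ℕ) : Prop where
  mem : memOK n ls (D.gc ++ D.tc) = true
  one : (D.tc.map Prod.fst).head? = some (idk n)
  facts : factsB ls facts (D.gc.map Prod.fst) (D.tc.map Prod.fst) = true
  sub : TableOK n D.sub (D.gc.map Prod.fst)
  size : sizeOfChain D.sub = N

theorem exists_elems (hn : n ≤ 512) (hT : TableOK n ls gens) (hv : Valid n gens) (hp : prodSet n ls = genG n gens)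
    {facts : List (ℕ × List ℕ × List ℕ)} {N : ℕ} (h : D.OK facts N) :
    ∃ g t : ℕ → ↥(genG n gens), t 0 = 1 ∧
      (∀ m < facts.length, t (facts.getD m (0, [], [])).1 * Collect.ev g (facts.getD m (0, [], [])).2.1 *
        (t (facts.getD m (0, [], [])).1)⁻¹ = Collect.ev g (facts.getD m (0, [], [])).2.2) ∧
      N ≤ Nat.card (closure (g '' {k | k < D.gc.length})) := by
  classical
  have hmem : ∀ c ∈ D.gc ++ D.tc, ∃ g : ↥(genG n gens), Rep n c.1 (g : Perm (Fin n)) := fun c hc => by
    have hh := List.all_eq_true.mp h.mem c hc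
    rw [Bool.and_eq_true] at hh
    exact ⟨⟨_, mem_of_sift hn hT hv _ _ (decP_rep hh.1) hh.2⟩, decP_rep hh.1⟩
  have hsel : ∀ l : List (ℕ × ℕ), (∀ c ∈ l, c ∈ D.gc ++ D.tc) →
      ∀ k, ∃ g : ↥(genG n gens), k < l.length → Rep n ((l.map Prod.fst).getD k 0) (g : Perm (Fin n)) := by
    intro l hl k
    by_cases hk : k < l.length
    · obtain ⟨g, hg⟩ := hmem _ (hl _ (List.getElem_mem hk))
      exact ⟨g, fun _ => by rwa [List.getD_eq_getElem _ _ (by simpa using hk), List.getElem_map]⟩
    · exact ⟨1, fun hk' => absurd hk' hk⟩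
  choose g hg using hsel D.gc fun c hc => List.mem_append_left _ hc
  choose t ht using hsel D.tc fun c hc => List.mem_append_right _ hc
  have hone := h.one
  have ht0 : t 0 = 1 := by
    cases htc : D.tc with
    | nil => rw [htc] at hone; simp at hone
    | cons a l =>
      rw [htc] at hone
      simp only [List.map_cons, List.head?_cons, Option.some.injEq] at hone
      have := ht 0 (by rw [htc]; simp)
      rw [htc, List.map_cons, List.getD_cons_zero, hone] at this
      exact Subtype.ext (this.unique (rep_id hn))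
  refine ⟨g, t, ht0, fun m hm => ?_, ?_⟩
  · have hf := List.all_eq_true.mp h.facts _ (List.getElem_mem hm)
    rw [List.getD_eq_getElem _ _ hm]
    simp only [Bool.and_eq_true, Nat.blt_eq, List.all_eq_true, List.length_map] at hf
    obtain ⟨⟨⟨hlt, hq⟩, hr⟩, hb⟩ := hf
    have hev : ∀ w : List ℕ, (∀ a ∈ w, a < D.gc.length) → ∀ i : Fin n,
        apW (D.gc.map Prod.fst) w i = (((Collect.ev g w : ↥(genG n gens)) : Perm (Fin n)) i : ℕ) := by
      intro w hw i
      rw [rep_apW (g := fun a => (g a : Perm (Fin n))) w (fun a ha => hg a (hw a ha)) i]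
      simp only [Collect.ev, SubmonoidClass.coe_list_prod, List.map_map]
      rfl
    rw [mul_inv_eq_iff_eq_mul]
    refine Subtype.ext (eq_of_bases hn hT hv hp (Subtype.coe_prop _) (Subtype.coe_prop _) fun j hj b hbj => Fin.ext ?_)
    have hbmem : (b : ℕ) ∈ ls.map Level.base := by
      rw [hbj, List.getD_eq_getElem _ _ (by simpa using hj)]; exact List.getElem_mem _
    have := Nat.eq_of_beq_eq_true (hb _ hbmem)
    rw [hev _ hq b, ht _ hlt, ht _ hlt b, hev _ hr] at this
    simpa [Perm.mul_apply] using this
  · have hv' : Valid n (D.gc.map Prod.fst) := fun c hc => by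
      obtain ⟨d, hd, rfl⟩ := List.mem_map.mp hc
      obtain ⟨x, hx⟩ := hmem d (List.mem_append_left _ hd)
      exact ⟨_, hx⟩
    have hrep : ∀ k, k < D.gc.length → Rep n ((D.gc.map Prod.fst).getD k 0) ((genG n gens).subtype (g k)) := hg
    have himg : (closure (g '' {k | k < D.gc.length})).map (genG n gens).subtype = genG n (D.gc.map Prod.fst) := by
      rw [MonoidHom.map_closure]
      show Subgroup.closure _ = Subgroup.closure _
      congr 1
      ext x
      constructor
      · rintro ⟨_, ⟨k, hk, rfl⟩, rfl⟩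
        have hk' : k < (D.gc.map Prod.fst).length := by simpa using hk
        refine ⟨_, List.getElem_mem hk', ?_⟩
        rw [← List.getD_eq_getElem (d := 0) _ hk']
        exact hrep k hk
      · rintro ⟨c, hc, hx⟩
        obtain ⟨k, hk, rfl⟩ := List.getElem_of_mem hc
        refine ⟨g k, ⟨k, by simpa using hk, rfl⟩, ?_⟩
        have := hrep k (by simpa using hk)
        rw [List.getD_eq_getElem _ _ hk] at this
        exact this.unique hx
    rw [Nat.card_congr (Subgroup.equivMapOfInjective (closure (g '' {k | k < D.gc.length}))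
      (genG n gens).subtype (subtype_injective (genG n gens))).toEquiv, himg, ← h.size]
    obtain ⟨hsub, hc⟩ := table_products hn h.sub hv'
    rw [← hc, ← Nat.card_coe_set_eq]
    exact Nat.card_mono (Set.toFinite _) hsub

end SylowData

/-- A certificate for an odd prime kills that torsion. -/
theorem no_torsion_of_cert (hn : n ≤ 512) (hT : TableOK n ls gens) (hv : Valid n gens)
    (hp : prodSet n ls = genG n gens) (C : CollectP.Cert) (hC : C.check = true) (hprime : C.p.Prime)
    (D : SylowData n ls gens) (hlen : D.gc.length = C.n) (hD : D.OK C.facts (C.p ^ C.n))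
    (hdiv : ¬ C.p * C.p ^ C.n ∣ Nat.card (genG n gens))
    {Γ : Type u} [Group Γ] [Finite Γ] {σ : Γ →* ↥(genG n gens)} (hσ : Cfsg.IsStemExtension σ) {z : Γ}
    (hz : z ∈ σ.ker) (hzp : z ^ C.p = 1) : z = 1 := by
  obtain ⟨g, t, ht, hf, hle⟩ := D.exists_elems hn hT hv hp hD
  rw [hlen] at hle
  refine CollectP.no_torsion hσ hprime (fun Δ _ _ τ hτ hexp => ?_) hz hzp
  rw [eq_bot_iff]
  intro x hx
  have hupper := CollectP.card_lift C (Gl := g) (Tl := t) (E := fun _ => (1 : ↥(genG n gens)))
    (fun _ _ => Commute.one_left _) (fun _ => one_pow _) ht (fun m => by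
      show _ = _ * (1 : ↥(genG n gens))
      rw [mul_one]
      by_cases hm : m < C.facts.length
      · exact hf m hm
      · rw [show C.fact m = (0, [], []) from List.getD_eq_default _ _ (not_lt.mp hm)]
        simp [Collect.ev_nil, ht]) hC
  have hone : ∀ f : ℕ → ℤ, CollectMod.zz (fun _ => (1 : ↥(genG n gens))) C.facts.length f = 1 := by
    intro f
    induction C.facts.length with
    | zero => rfl
    | succ k ih => simp [CollectMod.zz, ih]
  simp only [hone, mul_one] at hupper
  have hindex := CollectP.pow_index_eq_one hτ C hexp hC g t ht hf hle hx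
  have hmul := Subgroup.card_mul_index (closure (g '' {k | k < C.n}))
  rw [le_antisymm hupper hle] at hmul
  have hco : Nat.Coprime C.p (closure (g '' {k | k < C.n})).index := (Nat.Prime.coprime_iff_not_dvd hprime).mpr
    fun h => hdiv (by rw [← hmul, mul_comm C.p]; exact Nat.mul_dvd_mul_left _ h)
  have := pow_gcd_eq_one.mpr ⟨hexp x hx, hindex⟩
  rwa [hco.gcd_eq_one, pow_one] at this

/-- A certificate for the prime two kills the two-torsion. -/
theorem no_torsion_two (hn : n ≤ 512) (hT : TableOK n ls gens) (hv : Valid n gens)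
    (hp : prodSet n ls = genG n gens) (C : Collect.Cert) (hC : C.check = true)
    (D : SylowData n ls gens) (hlen : D.gc.length = C.n) (hD : D.OK C.facts (2 ^ C.n))
    (hdiv : ¬ 2 * 2 ^ C.n ∣ Nat.card (genG n gens))
    {Γ : Type u} [Group Γ] [Finite Γ] {σ : Γ →* ↥(genG n gens)} (hσ : Cfsg.IsStemExtension σ) {z : Γ}
    (hz : z ∈ σ.ker) (hzp : z ^ 2 = 1) : z = 1 := by
  obtain ⟨g, t, ht, hf, hle⟩ := D.exists_elems hn hT hv hp hD
  rw [hlen] at hle
  refine Collect.eq_one_of_sq_surjective (fun y hy => Collect.sq_surjective hσ (fun Δ _ _ τ hτ hexp => ?_) hy) 1 z hz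
    (by rwa [pow_one])
  rw [eq_bot_iff]
  intro x hx
  have hupper := Collect.card_lift (C := C) (Gl := g) (Tl := t) (E := fun _ => (1 : ↥(genG n gens)))
    (fun _ _ => Commute.one_left _) (fun _ => one_mul _) ht (fun m => by
      show _ = _ * (1 : ↥(genG n gens))
      rw [mul_one]
      by_cases hm : m < C.facts.length
      · exact hf m hm
      · rw [show C.fact m = (0, [], []) from List.getD_eq_default _ _ (not_lt.mp hm)]
        simp [Collect.ev_nil, ht]) hC
  have hone : ∀ f : ℕ, Collect.zz (fun _ => (1 : ↥(genG n gens))) C.facts.length f = 1 := by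
    intro f
    induction C.facts.length with
    | zero => rfl
    | succ k ih => simp [Collect.zz, ih]
  simp only [hone, mul_one] at hupper
  have hindex := Collect.pow_index_eq_one hτ hexp C hC g t ht hf hle hx
  have hmul := Subgroup.card_mul_index (closure (g '' {k | k < C.n}))
  rw [le_antisymm hupper hle] at hmul
  have hco : Nat.Coprime 2 (closure (g '' {k | k < C.n})).index := (Nat.Prime.coprime_iff_not_dvd Nat.prime_two).mpr
    fun h => hdiv (by rw [← hmul, mul_comm 2]; exact Nat.mul_dvd_mul_left _ h)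
  have := pow_gcd_eq_one.mpr ⟨show x ^ 2 = 1 by rw [pow_two]; exact hexp x hx, hindex⟩
  rwa [hco.gcd_eq_one, pow_one] at this

/-- An element of prime order, met once in the group order, kills that torsion. -/
theorem no_torsion_cyclic {G : Type*} [Group G] [Finite G] {p : ℕ} (hp : p.Prime) {g : G} (hg : g ^ p = 1)
    (hne : g ≠ 1) (hdiv : ¬ p * p ∣ Nat.card G)
    {Γ : Type u} [Group Γ] [Finite Γ] {σ : Γ →* G} (hσ : Cfsg.IsStemExtension σ) {z : Γ}
    (hz : z ∈ σ.ker) (hzp : z ^ p = 1) : z = 1 := by
  haveI := Fact.mk hp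
  have hmul := Subgroup.card_mul_index (zpowers g)
  rw [Nat.card_zpowers, orderOf_eq_prime hg hne] at hmul
  have hco : Nat.Coprime p (zpowers g).index := (Nat.Prime.coprime_iff_not_dvd hp).mpr
    fun h => hdiv (by rw [← hmul]; exact Nat.mul_dvd_mul_left _ h)
  have := pow_gcd_eq_one.mpr ⟨hzp, CfsgLib.StSL.pow_index_eq_one_of_cyclic hσ g hz⟩
  rwa [hco.gcd_eq_one, pow_one] at this

end CfsgPC
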