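/-
A table whose Schreier generators all sift gives the whole group.
-/
import Cfsg.Agent.Lib.PermChain.Chain

set_option autoImplicit false

namespace CfsgPC

open Equiv

/-- Every Schreier generator of the entries `a ≤ k < b` of level `j` sifts through the levels below. -/
def closedOK (n : ℕ) (ls : List Level) (gens : List ℕ) (j a b : ℕ) : Bool :=
  (List.range (b - a)).all fun d => (gensAt n ls gens j).all fun g =>
    (ls.getD j ⟨0, [], [], []⟩).findsOK (ap g ((ls.getD j ⟨0, [], [], []⟩).pt (a + d))) &&
      sift n (ls.drop (j + 1)) ((ls.getD j ⟨0, [], [], []⟩).schreier n g (a + d))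

theorem of_closedOK {n : ℕ} {ls : List Level} {gens : List ℕ} {j a b : ℕ} (h : closedOK n ls gens j a b = true)
    {k : ℕ} (ha : a ≤ k) (hb : k < b) : ∀ g ∈ gensAt n ls gens j,
      (ls.getD j ⟨0, [], [], []⟩).findsOK (ap g ((ls.getD j ⟨0, [], [], []⟩).pt k)) = true ∧
        sift n (ls.drop (j + 1)) ((ls.getD j ⟨0, [], [], []⟩).schreier n g k) = true := by
  intro g hg
  have := List.all_eq_true.mp (List.all_eq_true.mp h (k - a) (List.mem_range.mpr (by omega))) g hg
  rw [Nat.add_sub_cancel' ha, Bool.and_eq_true] at this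
  exact this

/-- Nothing lies outside a closed table. -/
theorem table_closed {n : ℕ} (hn : n ≤ 512) : ∀ {ls : List Level} {gens : List ℕ}, TableOK n ls gens → Valid n gens →
    (∀ j < ls.length, ∀ k < (ls.getD j ⟨0, [], [], []⟩).tr.length, ∀ g ∈ gensAt n ls gens j,
      (ls.getD j ⟨0, [], [], []⟩).findsOK (ap g ((ls.getD j ⟨0, [], [], []⟩).pt k)) = true ∧
        sift n (ls.drop (j + 1)) ((ls.getD j ⟨0, [], [], []⟩).schreier n g k) = true) →
    (∀ c ∈ gensAt n ls gens ls.length, ∀ i < n, ap c i = i) →
    prodSet n ls = genG n gens := by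
  intro ls gens h
  induction h with
  | nil gens =>
    intro _ _ hlast
    have hb : genG n gens = ⊥ := by
      rw [eq_bot_iff, genG, Subgroup.closure_le]
      rintro g ⟨c, hc, hg⟩
      exact Subgroup.mem_bot.mpr (Equiv.ext fun i => Fin.ext (by rw [← hg i, hlast c hc i i.2]; rfl))
    rw [hb]
    ext g
    simp [prodSet]
  | @cons L ls gens hb hlen hent hsel hrest ih =>
    intro hv hclosed hlast
    obtain ⟨hnv, hnle⟩ := level_next hn hv hb hent hsel
    have hnext : prodSet n ls = genG n (L.nextGens n gens) := ih hnv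
      (fun j hj k hk g hg => hclosed (j + 1) (by simpa using hj) k hk g hg) hlast
    have hsub : prodSet n (L :: ls) ⊆ genG n gens := (table_products hn (.cons hb hlen hent hsel hrest) hv).1
    refine Set.Subset.antisymm hsub ?_
    have hstep : ∀ g : Perm (Fin n), (∃ c ∈ gens, Rep n c g) → ∀ x ∈ prodSet n (L :: ls), g * x ∈ prodSet n (L :: ls) := by
      rintro g ⟨c, hc, hg⟩ x ⟨k, hk, T, hT, y, hy, rfl⟩
      obtain ⟨hf, hs⟩ := hclosed 0 (by simp) k (by simpa using hk) c (by simpa [gensAt] using hc)
      simp only [List.getD_cons_zero, Level.findsOK, Bool.and_eq_true, Nat.blt_eq] at hf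
      simp only [List.getD_cons_zero, List.drop_succ_cons, List.drop_zero] at hs
      obtain ⟨T', -, hr, -, -⟩ := level_entry hv hb hent k hk
      obtain rfl := hT.unique hr
      obtain ⟨U, -, hUr, hUi, -⟩ := level_entry hv hb hent _ hf.1
      have hrep : Rep n (L.schreier n c k) (U⁻¹ * (g * T)) := hUi.comp (hg.comp hT)
      have hm : U⁻¹ * (g * T) * y ∈ genG n (L.nextGens n gens) :=
        mul_mem (mem_of_sift hn hrest hnv _ _ hrep hs) (hnext ▸ hy : y ∈ (genG n (L.nextGens n gens) : Set _))
      rw [← SetLike.mem_coe, ← hnext] at hm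
      exact ⟨_, hf.1, U, hUr, _, hm, by group⟩
    have h1 : (1 : Perm (Fin n)) ∈ prodSet n (L :: ls) := by
      have h0 := hent 0 hlen
      simp only [entryOK, Nat.beq_refl, if_true, Bool.and_eq_true, List.all_eq_true, List.mem_range] at h0
      exact ⟨0, hlen, 1, fun i => by rw [Nat.eq_of_beq_eq_true (h0.2 i i.2)]; rfl, 1,
        hnext.symm ▸ (one_mem _ : (1 : Perm (Fin n)) ∈ genG n (L.nextGens n gens)), (one_mul 1).symm⟩
    intro x hx
    have hall : ∀ x ∈ genG n gens, ∀ y ∈ prodSet n (L :: ls), x * y ∈ prodSet n (L :: ls) := by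
      intro x hx
      induction hx using Subgroup.closure_induction with
      | mem g hg => exact hstep g hg
      | one => intro y hy; rwa [one_mul]
      | mul a b _ _ ha hb => intro y hy; rw [mul_assoc]; exact ha _ (hb _ hy)
      | inv a _ ha =>
        intro y hy
        have himg : (fun v => a * v) '' prodSet n (L :: ls) = prodSet n (L :: ls) :=
          Set.eq_of_subset_of_ncard_le (by rintro _ ⟨v, hv', rfl⟩; exact ha v hv')
            (by rw [Set.ncard_image_of_injective _ (mul_right_injective a)]) (Set.toFinite _)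
        rw [← himg] at hy
        obtain ⟨v, hv', rfl⟩ := hy
        rwa [inv_mul_cancel_left]
    simpa using hall x hx 1 h1

end CfsgPC
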