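/-
A finite group acting faithfully enough on some labelled points is the group of the point permutations.
-/
import Cfsg.Agent.Lib.PermChain.Chain

set_option autoImplicit false

namespace CfsgPC

open Equiv

universe u v

/-- Generators with known permutation codes: their group is an image of a subgroup. -/
theorem exists_partial_model {G : Type u} [Group G] {X : Type v} [MulAction G X] {n : ℕ} {f : Fin n → X}
    (hf : Function.Injective f) {gens : List ℕ}
    (hg : ∀ c ∈ gens, ∃ g : G, ∃ p : Perm (Fin n), Rep n c p ∧ ∀ i, g • f i = f (p i)) :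
    ∃ (S : Subgroup G) (φ : S →* genG n gens), Function.Surjective φ := by
  classical
  let S : Subgroup G :=
    { carrier := {g | ∃ p : Perm (Fin n), p ∈ genG n gens ∧ ∀ i, g • f i = f (p i)}
      one_mem' := ⟨1, one_mem _, fun i => by rw [one_smul]; rfl⟩
      mul_mem' := by
        rintro g h ⟨p, hp, hpg⟩ ⟨q, hq, hqh⟩
        exact ⟨p * q, mul_mem hp hq, fun i => by rw [mul_smul, hqh, hpg]; rfl⟩
      inv_mem' := by
        rintro g ⟨p, hp, hpg⟩
        exact ⟨p⁻¹, inv_mem hp, fun i => by
          rw [inv_smul_eq_iff, hpg]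
          exact congrArg f (p.apply_symm_apply i).symm⟩ }
  have huniq : ∀ g : G, ∀ p q : Perm (Fin n), (∀ i, g • f i = f (p i)) → (∀ i, g • f i = f (q i)) → p = q :=
    fun g p q hp hq => Equiv.ext fun i => hf ((hp i).symm.trans (hq i))
  choose P hP hPs using fun g : S => g.2
  let φ : S →* genG n gens := MonoidHom.mk' (fun g => ⟨P g, hP g⟩) fun a b => Subtype.ext
    (huniq ((a * b : S) : G) _ _ (hPs _) fun i => by
      rw [Subgroup.coe_mul, mul_smul, hPs b, hPs a]; rfl)
  have hsurj : Function.Surjective φ := by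
    rw [← MonoidHom.range_eq_top]
    refine Subgroup.map_injective (genG n gens).subtype_injective ?_
    rw [← MonoidHom.range_eq_map (genG n gens).subtype, Subgroup.range_subtype]
    refine le_antisymm (Subgroup.map_subtype_le _) ?_
    conv_lhs => rw [genG]
    rw [Subgroup.closure_le]
    rintro p ⟨c, hc, hr⟩
    obtain ⟨g, q, hq, hgq⟩ := hg c hc
    obtain rfl := hr.unique hq
    have hgS : g ∈ S := ⟨p, Subgroup.subset_closure ⟨c, hc, hr⟩, hgq⟩
    exact ⟨φ ⟨g, hgS⟩, ⟨_, rfl⟩, huniq g _ _ (hPs ⟨g, hgS⟩) hgq⟩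
  exact ⟨S, φ, hsurj⟩

/-- The group of the codes is no larger than the group. -/
theorem card_model_le {G : Type u} [Group G] [Finite G] {X : Type v} [MulAction G X] {n : ℕ} {f : Fin n → X}
    (hf : Function.Injective f) {gens : List ℕ}
    (hg : ∀ c ∈ gens, ∃ g : G, ∃ p : Perm (Fin n), Rep n c p ∧ ∀ i, g • f i = f (p i)) :
    Nat.card (genG n gens) ≤ Nat.card G := by
  obtain ⟨S, φ, hs⟩ := exists_partial_model hf hg
  exact (Nat.card_le_card_of_surjective _ hs).trans (Nat.card_le_card_of_injective _ Subtype.val_injective)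

/-- Generators with known permutation codes whose group has the full order give an isomorphism. -/
theorem exists_model {G : Type u} [Group G] [Finite G] {X : Type v} [MulAction G X] {n : ℕ} {f : Fin n → X}
    (hf : Function.Injective f) {gens : List ℕ}
    (hg : ∀ c ∈ gens, ∃ g : G, ∃ p : Perm (Fin n), Rep n c p ∧ ∀ i, g • f i = f (p i))
    (hcard : Nat.card G ≤ Nat.card (genG n gens)) : Nonempty (G ≃* genG n gens) := by
  obtain ⟨S, φ, hsurj⟩ := exists_partial_model hf hg
  have h1 : Nat.card S ≤ Nat.card G := Nat.card_le_card_of_injective _ Subtype.val_injective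
  have h2 : Nat.card (genG n gens) ≤ Nat.card S := Nat.card_le_card_of_surjective _ hsurj
  have hS : S = ⊤ := Subgroup.eq_top_of_card_eq _ (le_antisymm h1 (hcard.trans h2))
  have hb : Function.Bijective φ :=
    (Nat.bijective_iff_surjective_and_card _).mpr ⟨hsurj, le_antisymm (h1.trans hcard) h2⟩
  exact ⟨(Subgroup.topEquiv.symm.trans (MulEquiv.subgroupCongr hS.symm)).trans (MulEquiv.ofBijective φ hb)⟩

end CfsgPC
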