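/-
Outer automorphisms of a permutation group read off from a self-centralising cyclic Sylow subgroup,
an element normalising it and the centraliser of that element.
-/
import Cfsg.Agent.Lib.PermChain.Eval
import Cfsg.Prelude.Def_KGroupFacts

set_option autoImplicit false
set_option linter.style.haveILetI false

namespace CfsgPC

open Equiv

/-- The certificate: `x` of prime order `p` with inverse `xi`, `y x = x^r y`, third generator `s`;
shifts of the bases along the cycles of `x` and of `y`; relations; the admissible images. -/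
structure Rigid where
  n : ℕ
  p : ℕ
  r : ℕ
  x : ℕ
  xi : ℕ
  y : ℕ
  s : ℕ
  dx : List ℕ
  dy : List ℕ
  rels : List (List ℕ × ℕ)
  images : List (Bool × ℕ)
  ls : List Level

namespace Rigid

variable (R : Rigid)

def gens : List ℕ := [R.x, R.y, R.s]

def bases : List ℕ := R.ls.map Level.base

/-- The bases are the stated iterates of the first. -/
def basesOK (c : ℕ) (d : List ℕ) : Bool :=
  Nat.beq d.length R.ls.length && (List.range R.ls.length).all fun j =>
    Nat.beq (apN c (d.getD j 0) (R.bases.getD 0 0)) (R.bases.getD j 0)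

/-- Two codes agree on every point. -/
def sameC (a b : ℕ) : Bool := (List.range R.n).all fun i => Nat.beq (ap a i) (ap b i)

/-- Everything that can commute with the code `c`. -/
def centL (c : ℕ) (d : List ℕ) : List ℕ :=
  (List.range R.n).filterMap fun v =>
    match liftC R.n R.ls (d.map fun k => apN c k v) with
    | some h => if (List.range R.n).all fun i => Nat.beq (ap h (ap c i)) (ap c (ap h i)) then some h else none
    | none => none

/-- The codes of candidate images. -/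
def cand (e : Bool) (t : ℕ) : List ℕ := [bif e then R.xi else R.x, R.y, t]

def check : Bool :=
  Nat.ble R.n 512 && shapeOK R.n R.ls R.gens && Nat.blt 0 R.ls.length &&
    isPerm R.n R.x R.xi && R.basesOK R.x R.dx && R.basesOK R.y R.dy &&
    (List.range R.n).all (fun i => Nat.beq (apN R.x R.p i) i) &&
    !R.sameC R.x (idk R.n) &&
    (List.range R.n).all (fun i => Nat.beq (ap R.y (ap R.x i)) (apN R.x R.r (ap R.y i))) &&
    !Nat.beq (sizeOfChain R.ls % (R.p * R.p)) 0

def checkCentX : Bool :=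
  (R.centL R.x R.dx).all fun h => (List.range R.p).any fun k =>
    (List.range R.n).all fun i => Nat.beq (ap h i) (apN R.x k i)

def checkArith : Bool :=
  (List.range R.p).all (fun k => (List.range R.p).any fun m => Nat.beq (R.r * (k + m) % R.p) m) &&
    (List.range R.p).all fun j => Nat.beq j 0 || (List.range R.p).any fun a =>
      Nat.beq (R.r ^ a % R.p) j || Nat.beq ((R.p - 1) * R.r ^ a % R.p) j

def checkImages : Bool :=
  (R.rels.all fun w => w.1.all (fun a => Nat.blt a 3) && relHolds R.n R.gens w) &&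
    [false, true].all fun e => (R.centL R.y R.dy).all fun t =>
      !(R.rels.all fun w => relHolds R.n (R.cand e t) w) ||
        R.images.any fun im => (im.1 == e) && R.sameC im.2 t

/-- The third generator commutes with the second. -/
def checkS : Bool := (List.range R.n).all fun i => Nat.beq (ap R.s (ap R.y i)) (ap R.y (ap R.s i))

/-- The group. -/
noncomputable abbrev grp : Subgroup (Perm (Fin R.n)) := genG R.n R.gens

variable {R}

/-- The table is right and gives the whole group. -/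
structure Good (R : Rigid) : Prop where
  table : TableOK R.n R.ls R.gens
  eq : prodSet R.n R.ls = R.grp
  card : Nat.card R.grp = sizeOfChain R.ls

theorem sameC_iff {a b : ℕ} {g h : Perm (Fin R.n)} (ha : Rep R.n a g) (hb : Rep R.n b h) :
    R.sameC a b = true ↔ g = h := by
  simp only [sameC, List.all_eq_true, List.mem_range]
  constructor
  · intro e
    exact Equiv.ext fun i => Fin.ext (by rw [← ha i, ← hb i, Nat.eq_of_beq_eq_true (e i i.2)])
  · rintro rfl i hi
    rw [ha ⟨i, hi⟩, hb ⟨i, hi⟩]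
    exact Nat.beq_refl _

theorem centL_sound (hn : R.n ≤ 512) (hc : R.Good) (hv : Valid R.n R.gens)
    (hlen : 0 < R.ls.length) {c : ℕ} {d : List ℕ}
    (hb : R.basesOK c d = true) {u : Perm (Fin R.n)} (hu : Rep R.n c u) {g : Perm (Fin R.n)} (hg : g ∈ R.grp)
    (hcomm : Commute g u) : ∃ h ∈ R.centL c d, Rep R.n h g := by
  simp only [basesOK, Bool.and_eq_true, List.all_eq_true, List.mem_range] at hb
  obtain ⟨hdl, hd⟩ := hb
  have hdl := Nat.eq_of_beq_eq_true hdl
  obtain ⟨L, ls, hls⟩ : ∃ L ls, R.ls = L :: ls := by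
    cases hl : R.ls with
    | nil => simp [hl] at hlen
    | cons L ls => exact ⟨L, ls, rfl⟩
  have hL : L.base < R.n := by
    have := hc.table
    rw [hls] at this
    cases this with
    | cons hb _ _ _ _ => exact hb
  set b0 : Fin R.n := ⟨L.base, hL⟩
  obtain ⟨h, hh, hr⟩ := lift_sound hn hc.table hv g (hc.eq.symm ▸ hg) (d.map fun k => apN c k (g b0 : ℕ)) (by simp [hdl])
    (fun j hj b hbj => by
      rw [List.getD_eq_getElem _ _ (by simp [hdl]; exact hj), List.getElem_map]
      have hbase := Nat.eq_of_beq_eq_true (hd j hj)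
      rw [List.getD_eq_getElem _ _ (hdl.symm ▸ hj)] at hbase
      rw [show R.bases.getD 0 0 = (b0 : ℕ) by simp [bases, hls, b0],
        show R.bases.getD j 0 = (b : ℕ) from hbj.symm, rep_apN hu] at hbase
      rw [rep_apN hu, ← show (u ^ d[j]'(hdl.symm ▸ hj)) b0 = b from Fin.ext hbase, ← Perm.mul_apply, ← Perm.mul_apply,
        (hcomm.pow_right _).eq])
  refine ⟨h, List.mem_filterMap.mpr ⟨(g b0 : ℕ), List.mem_range.mpr (g b0).2, ?_⟩, hr⟩
  rw [hh]
  simp only
  rw [if_pos]
  simp only [List.all_eq_true, List.mem_range]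
  intro i hi
  rw [hu ⟨i, hi⟩, hr, hr ⟨i, hi⟩, hu, ← Perm.mul_apply, hcomm.eq]
  exact Nat.beq_refl _

/-- An element of order `p` is conjugate to a power of another when `p²` does not divide the order. -/
theorem exists_conj_pow {G : Type*} [Group G] [Finite G] {p : ℕ} [Fact p.Prime]
    (hp : ¬ p * p ∣ Nat.card G) {u v : G} (hu : orderOf u = p) (hv : orderOf v = p) :
    ∃ (g : G) (j : ℕ), 0 < j ∧ j < p ∧ v = g * u ^ j * g⁻¹ := by
  have hsyl : ∀ w : G, orderOf w = p → ∃ Q : Sylow p G, (Q : Subgroup G) = Subgroup.zpowers w := by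
    intro w hw
    obtain ⟨Q, hQ⟩ := (IsPGroup.of_card (n := 1) (by rw [Nat.card_zpowers, hw, pow_one]) :
      IsPGroup p (Subgroup.zpowers w)).exists_le_sylow
    refine ⟨Q, (Subgroup.eq_of_le_of_card_ge hQ ?_).symm⟩
    obtain ⟨k, hk⟩ := IsPGroup.iff_card.mp Q.isPGroup'
    rw [hk, Nat.card_zpowers, hw]
    have h1 : k ≤ 1 := by
      by_contra hk1
      refine hp ?_
      rw [← sq]
      exact (pow_dvd_pow p (by omega : 2 ≤ k)).trans (hk ▸ Subgroup.card_subgroup_dvd_card _)
    calc p ^ k ≤ p ^ 1 := Nat.pow_le_pow_right (Fact.out : p.Prime).pos h1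
      _ = p := pow_one p
  obtain ⟨Q, hQ⟩ := hsyl u hu
  obtain ⟨S, hS⟩ := hsyl v hv
  obtain ⟨g, hg⟩ := MulAction.exists_smul_eq G Q S
  have hm : v ∈ (S : Subgroup G) := hS ▸ Subgroup.mem_zpowers v
  rw [← hg, Sylow.coe_subgroup_smul, Subgroup.mem_pointwise_smul_iff_inv_smul_mem, hQ] at hm
  obtain ⟨j, hj⟩ := (isOfFinOrder_of_finite u).mem_powers_iff_mem_zpowers.mpr hm
  have hj' : v = g * u ^ (j % p) * g⁻¹ := by
    rw [← hu, pow_mod_orderOf]
    have e : u ^ j = (MulAut.conj g)⁻¹ • v := hj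
    rw [e]
    simp [MulAut.inv_def, MulAut.conj_symm_apply, mul_assoc]
  refine ⟨g, j % p, Nat.pos_of_ne_zero fun h => ?_, Nat.mod_lt _ (Fact.out : p.Prime).pos, hj'⟩
  rw [h, pow_zero, mul_one, mul_inv_cancel] at hj'
  rw [hj', orderOf_one] at hv
  exact (Fact.out : p.Prime).one_lt.ne hv

/-- The elements coded by `x`, `y`, `s`. -/
noncomputable def gen (R : Rigid) (a : ℕ) : Perm (Fin R.n) := decP R.n (R.gens.getD a 0)

theorem rep_gen (hv : Valid R.n R.gens) {a : ℕ} (ha : a < 3) :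
    Rep R.n (R.gens.getD a 0) (gen R a) ∧ gen R a ∈ R.grp := by
  have hm : R.gens.getD a 0 ∈ R.gens := by
    rw [List.getD_eq_getElem _ _ (by simpa [gens] using ha)]; exact List.getElem_mem _
  obtain ⟨g, hg⟩ := hv _ hm
  rw [gen, decP_eq hg]
  exact ⟨hg, Subgroup.subset_closure ⟨_, hm, hg⟩⟩

/-- Modulo inner automorphisms, an automorphism fixes `y`, fixes or inverts `x` and sends `s` to an admissible image. -/
theorem normal_form (hv : Valid R.n R.gens) (hp : R.p.Prime) (h1 : R.check = true) (h2 : R.checkCentX = true)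
    (h3 : R.checkArith = true) (h4 : R.checkImages = true) (h5 : R.checkS = true) (hchain : R.Good) (α : MulAut R.grp) :
    ∃ β : MulAut R.grp, β * α⁻¹ ∈ Cfsg.Inn R.grp ∧ ∃ im ∈ R.images, ∃ t : Perm (Fin R.n), Rep R.n im.2 t ∧
      ∀ z : R.grp,
        ((z : Perm (Fin R.n)) = gen R 0 → (β z : Perm (Fin R.n)) = bif im.1 then (gen R 0)⁻¹ else gen R 0) ∧
        ((z : Perm (Fin R.n)) = gen R 1 → (β z : Perm (Fin R.n)) = gen R 1) ∧
        ((z : Perm (Fin R.n)) = gen R 2 → (β z : Perm (Fin R.n)) = t) := by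
  classical
  haveI : Fact R.p.Prime := ⟨hp⟩
  simp only [check, Bool.and_eq_true, Bool.not_eq_true', Nat.ble_eq, Nat.blt_eq, List.all_eq_true,
    List.mem_range] at h1
  obtain ⟨⟨⟨⟨⟨⟨⟨⟨⟨hn, -⟩, hlen⟩, hxi⟩, hbx⟩, hby⟩, hxp⟩, hx1⟩, hyx⟩, hsq⟩ := h1
  obtain ⟨rx, mx⟩ := rep_gen hv (a := 0) (by norm_num)
  obtain ⟨ry, my⟩ := rep_gen hv (a := 1) (by norm_num)
  obtain ⟨rs, ms⟩ := rep_gen hv (a := 2) (by norm_num)
  change Rep R.n R.x (gen R 0) at rx
  change Rep R.n R.y (gen R 1) at ry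
  change Rep R.n R.s (gen R 2) at rs
  set X : R.grp := ⟨gen R 0, mx⟩ with hXdef
  set Y : R.grp := ⟨gen R 1, my⟩ with hYdef
  set S : R.grp := ⟨gen R 2, ms⟩ with hSdef
  have hXp : X ^ R.p = 1 := Subtype.ext (Equiv.ext fun i => Fin.ext (by
    rw [Subgroup.coe_pow, ← rep_apN rx, Nat.eq_of_beq_eq_true (hxp i i.2)]; rfl))
  have oX : orderOf X = R.p := orderOf_eq_prime hXp fun e => by
    have : R.sameC R.x (idk R.n) = true := (sameC_iff rx (rep_id hn)).mpr (congrArg Subtype.val e)
    rw [this] at hx1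
    simp at hx1
  have hYX : Y * X * Y⁻¹ = X ^ R.r := by
    rw [mul_inv_eq_iff_eq_mul]
    refine Subtype.ext (Equiv.ext fun i => Fin.ext ?_)
    simp only [Subgroup.coe_mul, Subgroup.coe_pow, hXdef, hYdef, Perm.mul_apply]
    rw [← ry, ← rx, ← rep_apN rx, ← ry, Nat.eq_of_beq_eq_true (hyx i i.2)]
  have hpow : ∀ a : ℕ, Y ^ a * X * (Y ^ a)⁻¹ = X ^ (R.r ^ a) := by
    intro a
    induction a with
    | zero => simp
    | succ a ih =>
      calc Y ^ (a + 1) * X * (Y ^ (a + 1))⁻¹ = Y * (Y ^ a * X * (Y ^ a)⁻¹) * Y⁻¹ := by rw [pow_succ']; group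
        _ = (Y * X * Y⁻¹) ^ (R.r ^ a) := by rw [ih, conj_pow]
        _ = X ^ (R.r ^ (a + 1)) := by rw [hYX, ← pow_mul, ← pow_succ']
  have hnd : ¬ R.p * R.p ∣ Nat.card R.grp := by
    rw [hchain.card]
    intro hd
    rw [Nat.mod_eq_zero_of_dvd hd] at hsq
    simp at hsq
  obtain ⟨g, j, hj0, hjp, hgj⟩ := exists_conj_pow hnd oX (v := α X) (by rw [MulEquiv.orderOf_eq, oX])
  simp only [checkArith, Bool.and_eq_true, List.all_eq_true, List.mem_range, List.any_eq_true, Bool.or_eq_true] at h3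
  obtain ⟨hm, hlog⟩ := h3
  -- fix or invert `X`
  obtain ⟨a, -, ha⟩ := (hlog j hjp).resolve_left fun e => by
    have := Nat.eq_of_beq_eq_true e; omega
  obtain ⟨e, hE⟩ : ∃ e : Bool, X ^ j = Y ^ a * (bif e then X⁻¹ else X) * (Y ^ a)⁻¹ := by
    rcases ha with ha | ha
    · refine ⟨false, ?_⟩
      rw [cond_false, hpow, ← pow_mod_orderOf X (R.r ^ a), oX, Nat.eq_of_beq_eq_true ha]
    · refine ⟨true, ?_⟩
      rw [cond_true, ← conj_inv, hpow, eq_inv_iff_mul_eq_one, ← pow_add, ← orderOf_dvd_iff_pow_eq_one, oX]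
      have h0 : ((R.p - 1) * R.r ^ a) % R.p = j := Nat.eq_of_beq_eq_true ha
      refine Nat.dvd_of_mod_eq_zero ?_
      calc (j + R.r ^ a) % R.p = ((R.p - 1) * R.r ^ a + R.r ^ a) % R.p := by
            rw [Nat.add_mod ((R.p - 1) * R.r ^ a), h0, Nat.add_mod, Nat.mod_eq_of_lt hjp]
        _ = (R.p * R.r ^ a) % R.p := by
            rw [← add_one_mul, Nat.sub_add_cancel hp.one_le]
        _ = 0 := Nat.mul_mod_right _ _
  set E : R.grp := bif e then X⁻¹ else X with hEdef
  set α1 : MulAut R.grp := MulAut.conj (g * Y ^ a)⁻¹ * α with hα1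
  have a1 : α1 X = E := by
    show (g * Y ^ a)⁻¹ * α X * ((g * Y ^ a)⁻¹)⁻¹ = E
    rw [hgj, hE]; group
  have hYE : Y * E * Y⁻¹ = E ^ R.r := by
    rw [hEdef]
    cases e
    · exact hYX
    · show Y * X⁻¹ * Y⁻¹ = X⁻¹ ^ R.r
      rw [← conj_inv, hYX, inv_pow]
  -- `y⁻¹ α1 y` centralises `x`
  have hcx : Commute (Y⁻¹ * α1 Y) E := by
    have h := congrArg α1 hYX
    rw [map_mul, map_mul, map_inv, map_pow, a1, ← hYE] at h
    show Y⁻¹ * α1 Y * E = E * (Y⁻¹ * α1 Y)
    calc Y⁻¹ * α1 Y * E = Y⁻¹ * (α1 Y * E * (α1 Y)⁻¹) * α1 Y := by group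
      _ = Y⁻¹ * (Y * E * Y⁻¹) * α1 Y := by rw [h]
      _ = E * (Y⁻¹ * α1 Y) := by group
  have hcX : Commute ((Y⁻¹ * α1 Y : R.grp) : Perm (Fin R.n)) (gen R 0) := by
    have hc' : Commute (Y⁻¹ * α1 Y) X := by
      rw [hEdef] at hcx
      cases e
      · exact hcx
      · exact Commute.inv_right_iff.mp hcx
    exact congrArg Subtype.val hc'.eq
  obtain ⟨hc, hcm, hcr⟩ := centL_sound hn hchain hv hlen hbx rx (Subtype.property _) hcX
  simp only [checkCentX, List.all_eq_true, List.any_eq_true, List.mem_range] at h2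
  obtain ⟨k0, -, hk0⟩ := h2 hc hcm
  have hY1 : α1 Y = Y * X ^ k0 := by
    rw [← inv_mul_eq_iff_eq_mul]
    refine Subtype.ext (Equiv.ext fun i => Fin.ext ?_)
    rw [← hcr i, Nat.eq_of_beq_eq_true (hk0 i i.2), rep_apN rx]
    rfl
  obtain ⟨m, -, hm'⟩ := hm (k0 % R.p) (Nat.mod_lt _ hp.pos)
  have hm'' : Nat.ModEq R.p (R.r * (k0 + m)) m := by
    have h0 : R.r * (k0 % R.p + m) % R.p = m := Nat.eq_of_beq_eq_true hm'
    have h1 : Nat.ModEq R.p (R.r * (k0 + m)) (R.r * (k0 % R.p + m)) :=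
      ((Nat.mod_modEq k0 R.p).symm.add_right m).mul_left _
    refine h1.trans ?_
    show _ = m % R.p
    rw [h0, Nat.mod_eq_of_lt (h0 ▸ Nat.mod_lt _ hp.pos)]
  have hkey : X ^ m * Y = Y * X ^ (k0 + m) := by
    rw [mul_inv_eq_iff_eq_mul.mp (show Y * X ^ (k0 + m) * Y⁻¹ = X ^ (R.r * (k0 + m)) by
      rw [← conj_pow, hYX, ← pow_mul])]
    congr 1
    exact pow_eq_pow_iff_modEq.mpr (oX ▸ hm''.symm)
  set h' : R.grp := (X ^ m)⁻¹ with hh'
  set β : MulAut R.grp := MulAut.conj (X ^ m)⁻¹ * α1 with hβ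
  have hXm : ∀ z : R.grp, β z = (X ^ m)⁻¹ * α1 z * X ^ m := fun z => by
    show (X ^ m)⁻¹ * α1 z * ((X ^ m)⁻¹)⁻¹ = _
    rw [inv_inv]
  have bX : β X = E := by
    rw [hXm, a1, hEdef]
    cases e
    · show (X ^ m)⁻¹ * X * X ^ m = X
      rw [mul_assoc, ← pow_succ', pow_succ, inv_mul_cancel_left]
    · show (X ^ m)⁻¹ * X⁻¹ * X ^ m = X⁻¹
      rw [← mul_inv_rev, ← pow_succ', pow_succ, mul_inv_rev, inv_mul_cancel_right]
  have bY : β Y = Y := by
    rw [hXm, hY1, mul_assoc, mul_assoc, ← pow_add, ← hkey, inv_mul_cancel_left]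
  -- the image of `s`
  have hSY : Commute S Y := Subtype.ext (Equiv.ext fun i => Fin.ext (by
    simp only [checkS, List.all_eq_true, List.mem_range] at h5
    simp only [Subgroup.coe_mul, hSdef, hYdef, Perm.mul_apply]
    rw [← rs, ← ry, ← ry, ← rs, Nat.eq_of_beq_eq_true (h5 i i.2)]))
  have hcs : Commute ((β S : R.grp) : Perm (Fin R.n)) (gen R 1) := by
    have := congrArg β hSY.eq
    rw [map_mul, map_mul, bY] at this
    exact congrArg Subtype.val this
  obtain ⟨t, htm, htr⟩ := centL_sound hn hchain hv hlen hby ry (Subtype.property _) hcs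
  simp only [checkImages, Bool.and_eq_true, List.all_eq_true, List.mem_cons, List.not_mem_nil, or_false,
    Bool.or_eq_true, List.any_eq_true, Bool.not_eq_true'] at h4
  obtain ⟨hrels, himg⟩ := h4
  have hall : (R.rels.all fun w => relHolds R.n (R.cand e t) w) = true := by
    refine List.all_eq_true.mpr fun w hw => ?_
    obtain ⟨hw3, hwh⟩ := hrels w hw
    simp only [Nat.blt_eq] at hw3
    let f : ℕ → R.grp := fun a => if h : a < 3 then ⟨gen R a, (rep_gen hv h).2⟩ else 1
    have h0 : (w.1.map fun a => (f a : Perm (Fin R.n))).prod ^ w.2 = 1 :=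
      (relHolds_iff (g := fun a => (f a : Perm (Fin R.n))) fun a ha => by
        simp only [f, dif_pos (hw3 a ha)]; exact (rep_gen hv (hw3 a ha)).1).mp hwh
    have hcoe : ∀ (φ : ℕ → R.grp) (l : List ℕ), (((l.map φ).prod : R.grp) : Perm (Fin R.n)) =
        (l.map fun a => (φ a : Perm (Fin R.n))).prod := fun φ l => by
      induction l with
      | nil => rfl
      | cons a l ih => rw [List.map_cons, List.prod_cons, List.map_cons, List.prod_cons, Subgroup.coe_mul, ih]
    have h1 : (w.1.map f).prod ^ w.2 = 1 := Subtype.ext (by rw [Subgroup.coe_pow, hcoe, h0]; rfl)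
    have h2 := congrArg β h1
    rw [map_pow, map_list_prod, List.map_map, map_one] at h2
    refine (relHolds_iff (g := fun a => ((β (f a) : R.grp) : Perm (Fin R.n))) fun a ha => ?_).mpr ?_
    · obtain ha3 := hw3 a ha
      interval_cases a
      · show Rep R.n (bif e then R.xi else R.x) ((β X : R.grp) : Perm (Fin R.n))
        rw [bX, hEdef]
        cases e
        · exact rx
        · exact rep_inv hn rx hxi
      · show Rep R.n R.y ((β Y : R.grp) : Perm (Fin R.n))
        rw [bY]; exact ry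
      · show Rep R.n t ((β S : R.grp) : Perm (Fin R.n))
        exact htr
    · rw [← hcoe (fun a => β (f a))]
      exact congrArg Subtype.val h2
  obtain ⟨im, him, hime, hims⟩ : ∃ im ∈ R.images, im.1 = e ∧ R.sameC im.2 t = true := by
    rcases himg e (by cases e <;> simp) t htm with h | ⟨im, him, h⟩
    · rw [hall] at h; simp at h
    · exact ⟨im, him, beq_iff_eq.mp h.1, h.2⟩
  refine ⟨β, ?_, im, him, ((β S : R.grp) : Perm (Fin R.n)), ?_, fun z => ⟨?_, ?_, ?_⟩⟩
  · rw [hβ, hα1, mul_assoc, mul_inv_cancel_right]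
    exact mul_mem ⟨_, rfl⟩ ⟨_, rfl⟩
  · simp only [sameC, List.all_eq_true, List.mem_range] at hims
    intro i
    rw [Nat.eq_of_beq_eq_true (hims i i.2)]
    exact htr i
  · intro hz
    rw [show z = X from Subtype.ext hz, bX, hEdef, hime]
    cases e <;> rfl
  · intro hz
    rw [show z = Y from Subtype.ext hz, bY]
  · intro hz
    rw [show z = S from Subtype.ext hz]

/-- The outer automorphisms inject into the admissible images. -/
theorem card_out_le (hv : Valid R.n R.gens) (hp : R.p.Prime) (h1 : R.check = true) (h2 : R.checkCentX = true)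
    (h3 : R.checkArith = true) (h4 : R.checkImages = true) (h5 : R.checkS = true) (hg : R.Good) :
    Nat.card (Cfsg.Out R.grp) ≤ R.images.length := by
  classical
  choose B hB im him t ht hz using normal_form hv hp h1 h2 h3 h4 h5 hg
  have hmk : ∀ α, (QuotientGroup.mk' (Cfsg.Inn R.grp) α) = QuotientGroup.mk' _ (B α) := fun α => by
    have := (QuotientGroup.eq_one_iff _).mpr (hB α)
    change QuotientGroup.mk' (Cfsg.Inn R.grp) (B α * α⁻¹) = 1 at this
    rw [map_mul, map_inv, mul_inv_eq_one] at this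
    exact this.symm
  have himg : ∀ α, ∃ k : Fin R.images.length, R.images[(k : ℕ)] = im α := fun α => by
    obtain ⟨k, hk, e⟩ := List.getElem_of_mem (him α)
    exact ⟨⟨k, hk⟩, e⟩
  choose K hK using himg
  let F : Cfsg.Out R.grp → Fin R.images.length := fun q => K q.out
  have hF : Function.Injective F := by
    intro q q' e
    have he : im q.out = im q'.out := by rw [← hK, ← hK]; exact congrArg (fun k : Fin R.images.length => R.images[(k : ℕ)]) e
    suffices B q.out = B q'.out by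
      rw [← QuotientGroup.out_eq' q, ← QuotientGroup.out_eq' q']
      show QuotientGroup.mk' _ q.out = QuotientGroup.mk' _ q'.out
      exact (hmk _).trans ((congrArg _ this).trans (hmk _).symm)
    refine MulEquiv.toMonoidHom_injective (MonoidHom.eq_of_eqOn_dense
      (s := {z : R.grp | ∃ c ∈ R.gens, Rep R.n c (z : Perm (Fin R.n))}) ?_ ?_)
    · refine Subgroup.map_injective R.grp.subtype_injective ?_
      rw [MonoidHom.map_closure, ← MonoidHom.range_eq_map, Subgroup.range_subtype]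
      show _ = Subgroup.closure _
      congr 1
      ext p
      constructor
      · rintro ⟨z, ⟨c, hc, hr⟩, rfl⟩; exact ⟨c, hc, hr⟩
      · rintro ⟨c, hc, hr⟩; exact ⟨⟨p, Subgroup.subset_closure ⟨c, hc, hr⟩⟩, ⟨c, hc, hr⟩, rfl⟩
    · rintro z ⟨c, hc, hr⟩
      refine Subtype.ext ?_
      show ((B q.out z : R.grp) : Perm (Fin R.n)) = ((B q'.out z : R.grp) : Perm (Fin R.n))
      obtain ⟨rx, -⟩ := rep_gen hv (a := 0) (by norm_num)
      obtain ⟨ry, -⟩ := rep_gen hv (a := 1) (by norm_num)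
      obtain ⟨rs, -⟩ := rep_gen hv (a := 2) (by norm_num)
      simp only [gens, List.mem_cons, List.not_mem_nil, or_false] at hc
      rcases hc with rfl | rfl | rfl
      · rw [(hz q.out z).1 (hr.unique rx), (hz q'.out z).1 (hr.unique rx), he]
      · rw [(hz q.out z).2.1 (hr.unique ry), (hz q'.out z).2.1 (hr.unique ry)]
      · rw [(hz q.out z).2.2 (hr.unique rs), (hz q'.out z).2.2 (hr.unique rs)]
        exact (he ▸ ht q.out : Rep R.n (im q'.out).2 _).unique (ht q'.out)
  exact (Nat.card_le_card_of_injective F hF).trans (le_of_eq (Nat.card_fin _))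

/-- A permutation normalising the group without acting as an element of the group. -/
def checkOuter (R : Rigid) (τ τi : ℕ) : Bool :=
  isPerm R.n τ τi &&
    R.gens.all (fun c => sift R.n R.ls (cp R.n τ (cp R.n c τi))) &&
    (List.range R.n).all (fun i => Nat.beq (ap τ (ap R.y i)) (ap R.y (ap τ i))) &&
    (R.centL R.y R.dy).all fun h =>
      !(([R.x, R.s] : List ℕ).all fun c => (List.range R.n).all fun i =>
        Nat.beq (ap h (ap c i)) (ap τ (ap c (ap τi (ap h i)))))

theorem exists_outer (hv : Valid R.n R.gens) (h1 : R.check = true) (hchain : R.Good) {τ τi : ℕ}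
    (ho : R.checkOuter τ τi = true) :
    2 ≤ Nat.card (Cfsg.Out R.grp) := by
  classical
  simp only [check, Bool.and_eq_true, Nat.ble_eq, Nat.blt_eq] at h1
  obtain ⟨⟨⟨⟨⟨⟨⟨⟨⟨hn, -⟩, hlen⟩, -⟩, -⟩, hby⟩, -⟩, -⟩, -⟩, -⟩ := h1
  simp only [checkOuter, Bool.and_eq_true, List.all_eq_true, List.mem_range, Bool.not_eq_true'] at ho
  obtain ⟨⟨⟨hp, hnorm⟩, hty⟩, hne⟩ := ho
  set T := decP R.n τ
  have hT : Rep R.n τ T := decP_rep hp
  have hTi : Rep R.n τi T⁻¹ := rep_inv hn hT hp
  have hle : R.grp ≤ R.grp.comap (MulAut.conj T).toMonoidHom := by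
    refine (Subgroup.closure_le _).mpr ?_
    rintro p ⟨c, hc, hr⟩
    show T * p * T⁻¹ ∈ R.grp
    rw [mul_assoc]
    exact mem_of_sift hn hchain.table hv _ _ (hT.comp (hr.comp hTi)) (hnorm c hc)
  have hTN : T ∈ Subgroup.normalizer (R.grp : Set (Perm (Fin R.n))) := by
    refine Subgroup.mem_normalizer_iff.mpr fun x => ⟨fun hx => hle hx, fun hx => ?_⟩
    have hbij : Set.BijOn (fun q => T * q * T⁻¹) (R.grp : Set (Perm (Fin R.n))) R.grp :=
      ((Set.toFinite _).injOn_iff_bijOn_of_mapsTo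
        (fun q hq => show T * q * T⁻¹ ∈ (R.grp : Set (Perm (Fin R.n))) from hle hq)).mp (MulAut.conj T).injective.injOn
    obtain ⟨y, hy, he⟩ := hbij.surjOn hx
    exact (MulAut.conj T).injective he ▸ hy
  let σ : MulAut R.grp := R.grp.normalizerMonoidHom ⟨T, hTN⟩
  have hσ : σ ∉ Cfsg.Inn R.grp := by
    rintro ⟨g, hg⟩
    have hgz : ∀ z : R.grp, (g : Perm (Fin R.n)) * z * (g : Perm (Fin R.n))⁻¹ = T * z * T⁻¹ := fun z =>
      congrArg Subtype.val (DFunLike.congr_fun hg z)
    obtain ⟨rx, mx⟩ := rep_gen hv (a := 0) (by norm_num)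
    obtain ⟨ry, my⟩ := rep_gen hv (a := 1) (by norm_num)
    obtain ⟨rs, ms⟩ := rep_gen hv (a := 2) (by norm_num)
    change Rep R.n R.y (gen R 1) at ry
    have hTy : Commute T (gen R 1) := Equiv.ext fun i => Fin.ext (by
      simp only [Perm.mul_apply]
      rw [← hT, ← ry, ← ry, ← hT, Nat.eq_of_beq_eq_true (hty i i.2)])
    have hgy : Commute (g : Perm (Fin R.n)) (gen R 1) := by
      have := hgz ⟨_, my⟩
      simp only at this
      rw [hTy.eq, mul_inv_cancel_right] at this
      exact mul_inv_eq_iff_eq_mul.mp this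
    obtain ⟨h, hh, hr⟩ := centL_sound hn hchain hv hlen hby ry g.2 hgy
    have := hne h hh
    rw [List.all_eq_false] at this
    obtain ⟨c, hc, hfalse⟩ := this
    obtain ⟨z, hz⟩ : ∃ z : R.grp, Rep R.n c (z : Perm (Fin R.n)) := by
      simp only [List.mem_cons, List.not_mem_nil, or_false] at hc
      rcases hc with rfl | rfl
      exacts [⟨⟨_, mx⟩, rx⟩, ⟨⟨_, ms⟩, rs⟩]
    refine hfalse (List.all_eq_true.mpr fun i hi => ?_)
    have hi' := List.mem_range.mp hi
    rw [hz ⟨i, hi'⟩, hr, hr ⟨i, hi'⟩, hTi, hz, hT, ← Perm.mul_apply, ← Perm.mul_apply, ← Perm.mul_apply,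
      ← Perm.mul_apply, mul_inv_eq_iff_eq_mul.mp (hgz z)]
    exact Nat.beq_refl _
  have : Nontrivial (Cfsg.Out R.grp) :=
    ⟨QuotientGroup.mk' _ σ, 1, fun h => hσ ((QuotientGroup.eq_one_iff σ).mp h)⟩
  exact Finite.one_lt_card

end Rigid

/-- Isomorphic groups have outer automorphism groups of one order. -/
theorem card_out_congr {G H : Type*} [Group G] [Group H] (e : G ≃* H) :
    Nat.card (Cfsg.Out G) = Nat.card (Cfsg.Out H) :=
  Nat.card_congr (QuotientGroup.congr _ _ (MulAut.congr e) (by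
    rw [Cfsg.Inn, Cfsg.Inn, MonoidHom.map_range]
    ext a
    constructor
    · rintro ⟨x, rfl⟩
      exact ⟨e x, MulEquiv.ext fun y => by simp [MulAut.congr]⟩
    · rintro ⟨y, rfl⟩
      exact ⟨e.symm y, MulEquiv.ext fun w => by simp [MulAut.congr]⟩)).toEquiv

end CfsgPC
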